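import Groth.Prelude.Def_Formal2
import Mathlib.CategoryTheory.CofilteredSystem
import Mathlib.CategoryTheory.Functor.OfSequence
import Mathlib.GroupTheory.QuotientGroup.Basic

/-!
# Towers of abelian groups: vanishing of `lim¹` under the Mittag-Leffler condition
-/

universe u

namespace Groth.Agent.TowerLim

open CategoryTheory Opposite

variable {G : ℕ → Type u} [∀ n, AddCommGroup (G n)] (t : ∀ n, G (n + 1) →+ G n)

/-- The partial sums of the series solving `x n - t (x (n+1)) = g n`. -/
def partialSum (g : ∀ n, G n) : ℕ → ∀ n, G n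
  | 0 => fun _ => 0
  | k + 1 => fun n => g n + t n (partialSum g k (n + 1))

/-- If every composite of transition maps is eventually zero (in elementwise form), then the map
`x ↦ (x n - t (x (n+1)))` is injective and surjective. -/
theorem of_eventually_zero
    (h : ∀ i : ℕ, ∃ j : ℕ, i ≤ j ∧
      ∀ x : ∀ n, G n, (∀ n, i ≤ n → n < j → x n = t n (x (n + 1))) → x i = 0) :
    Formal2.limZero G t = ⊥ ∧ Function.Surjective (Formal2.towerDiff G t) := by
  refine ⟨?_, fun g => ?_⟩
  · rw [eq_bot_iff]
    intro x hx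
    rw [AddSubgroup.mem_bot]
    funext i
    obtain ⟨j, -, hj⟩ := h i
    exact hj x fun n _ _ => sub_eq_zero.mp (congrFun (AddMonoidHom.mem_ker.mp hx) n)
  · choose J hJ hJ' using h
    let D : ℕ → ∀ n, G n := fun k n => partialSum t g (k + 1) n - partialSum t g k n
    have hD : ∀ k n, D (k + 1) n = t n (D k (n + 1)) := by
      intro k n
      simp only [D, partialSum, map_sub]
      abel
    have hD0 : ∀ i k, J i ≤ i + k → D k i = 0 := by
      intro i k hk
      have := hJ' i (fun n => D (i + k - n) n) fun n hn hn' => by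
        rw [show i + k - n = (i + k - (n + 1)) + 1 by omega]
        exact hD _ _
      simpa using this
    have hconst : ∀ i k, J i ≤ i + k → partialSum t g k i = partialSum t g (J i - i) i := by
      intro i k hk
      induction k with
      | zero => rw [show J i - i = 0 by omega]
      | succ k ih =>
        by_cases hle : J i ≤ i + k
        · rw [← ih hle]; exact sub_eq_zero.mp (hD0 i k hle)
        · rw [show J i - i = k + 1 by omega]
    refine ⟨fun i => partialSum t g (J i - i) i, funext fun i => ?_⟩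
    show partialSum t g (J i - i) i - t i (partialSum t g (J (i + 1) - (i + 1)) (i + 1)) = g i
    have hK1 : J i ≤ i + ((J i + J (i + 1)) + 1) := by omega
    rw [← hconst i _ hK1, ← hconst (i + 1) (J i + J (i + 1)) (by omega)]
    show g i + t i (partialSum t g (J i + J (i + 1)) (i + 1)) - _ = g i
    abel

/-- The tower as a functor on `ℕᵒᵖ`. -/
abbrev towerFunctor : ℕᵒᵖ ⥤ AddCommGrpCat.{u} :=
  Functor.ofOpSequence (X := fun n => AddCommGrpCat.of (G n)) (fun n => AddCommGrpCat.ofHom (t n))

/-- The image of `G m` in `G n`. -/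
def im (n m : ℕ) (h : n ≤ m) : AddSubgroup (G n) :=
  ((towerFunctor t).map (homOfLE h).op).hom.range

theorem im_self (n : ℕ) : im t n n le_rfl = ⊤ := by
  rw [eq_top_iff]
  intro x _
  exact ⟨x, by simp⟩

theorem im_eq_map (n m : ℕ) (h : n + 1 ≤ m) :
    im t n m (Nat.le_of_succ_le h) = (im t (n + 1) m h).map (t n) := by
  have : (towerFunctor t).map (homOfLE (Nat.le_of_succ_le h)).op =
      (towerFunctor t).map (homOfLE h).op ≫ AddCommGrpCat.ofHom (t n) := by
    rw [← homOfLE_comp (Nat.le_succ n) h, op_comp, Functor.map_comp]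
    congr 1
    exact Functor.ofOpSequence_map_homOfLE_succ (X := fun n => AddCommGrpCat.of (G n)) (fun n => AddCommGrpCat.ofHom (t n)) n
  simp only [im, this]
  exact AddMonoidHom.range_comp (t n) _

/-- Mittag-Leffler implies the vanishing of `lim¹`. -/
theorem surjective_towerDiff_of_isMittagLeffler
    (h : (towerFunctor t ⋙ forget AddCommGrpCat).IsMittagLeffler) :
    Function.Surjective (Formal2.towerDiff G t) := by
  have hML : ∀ n, ∃ (M : ℕ) (hM : n ≤ M), ∀ m (hm : M ≤ m), im t n m (hM.trans hm) = im t n M hM := by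
    intro n
    obtain ⟨⟨M⟩, f, hf⟩ := h (op n)
    have hM : n ≤ M := leOfHom f.unop
    refine ⟨M, hM, fun m hm => le_antisymm ?_ ?_⟩
    · rintro _ ⟨x, rfl⟩
      refine ⟨((towerFunctor t).map (homOfLE hm).op).hom x, ?_⟩
      rw [show (homOfLE (hM.trans hm)).op = (homOfLE hm).op ≫ (homOfLE hM).op from Subsingleton.elim _ _,
        Functor.map_comp]
      rfl
    · intro y hy
      obtain ⟨x, hx⟩ := hy
      have := hf (k := op m) (homOfLE (hM.trans hm)).op
        ⟨x, show ((towerFunctor t).map f).hom x = y by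
          rw [show f = (homOfLE hM).op from Subsingleton.elim _ _]; exact hx⟩
      obtain ⟨z, hz⟩ := this
      exact ⟨z, hz⟩
  choose M hM hM' using hML
  let E : ∀ n, AddSubgroup (G n) := fun n => im t n (M n) (hM n)
  have hE : ∀ n, (E (n + 1)).map (t n) = E n := by
    intro n
    have h1 : n + 1 ≤ M (n + 1) + M n := (hM (n + 1)).trans (Nat.le_add_right _ _)
    show (im t (n + 1) _ _).map (t n) = im t n _ _
    rw [← hM' (n + 1) _ (Nat.le_add_right _ (M n)), ← im_eq_map t n _ h1,
      hM' n _ (Nat.le_add_left _ _)]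
  let tq : ∀ n, G (n + 1) ⧸ E (n + 1) →+ G n ⧸ E n := fun n =>
    QuotientAddGroup.map (E (n + 1)) (E n) (t n) (by rw [← hE n]; exact AddSubgroup.le_comap_map _ _)
  have hzero : ∀ i, ∃ j, i ≤ j ∧ ∀ x : ∀ n, G n ⧸ E n,
      (∀ n, i ≤ n → n < j → x n = tq n (x (n + 1))) → x i = 0 := by
    intro i
    refine ⟨M i, hM i, fun x hx => ?_⟩
    have key : ∀ n (hn : n ≤ M i), i ≤ n →
        ∃ y ∈ im t n (M i) hn, x n = QuotientAddGroup.mk' (E n) y := by
      intro n hn
      refine Nat.decreasingInduction' (P := fun n => ∀ hn : n ≤ M i, i ≤ n →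
        ∃ y ∈ im t n (M i) hn, x n = QuotientAddGroup.mk' (E n) y) ?_ hn ?_ hn
      · intro n hlt _ ih _ hin
        obtain ⟨y, hy, hxy⟩ := ih hlt (Nat.le_succ_of_le hin)
        refine ⟨t n y, ?_, ?_⟩
        · rw [im_eq_map t n _ hlt]; exact AddSubgroup.mem_map_of_mem _ hy
        · rw [hx n hin hlt, hxy]; rfl
      · intro _ _
        obtain ⟨y, hy⟩ := QuotientAddGroup.mk'_surjective (E (M i)) (x (M i))
        exact ⟨y, by rw [im_self]; trivial, hy.symm⟩
    obtain ⟨y, hy, hxy⟩ := key i (hM i) le_rfl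
    rw [hxy]
    exact (QuotientAddGroup.eq_zero_iff y).mpr hy
  intro g
  obtain ⟨xq, hxq⟩ := (of_eventually_zero tq hzero).2 (fun n => QuotientAddGroup.mk' (E n) (g n))
  choose x hx using fun n => QuotientAddGroup.mk'_surjective (E n) (xq n)
  have he : ∀ n, g n - (x n - t n (x (n + 1))) ∈ E n := by
    intro n
    rw [← QuotientAddGroup.eq_zero_iff, QuotientAddGroup.mk_sub, sub_eq_zero]
    have h1 : xq n - tq n (xq (n + 1)) = QuotientAddGroup.mk' (E n) (g n) := congrFun hxq n
    rw [← hx n, ← hx (n + 1)] at h1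
    exact h1.symm
  have hstep : ∀ n (a : E n), ∃ b : E (n + 1), t n b = a - (g n - (x n - t n (x (n + 1)))) := by
    intro n a
    have : (a : G n) - (g n - (x n - t n (x (n + 1)))) ∈ (E (n + 1)).map (t n) := by
      rw [hE n]; exact sub_mem a.2 (he n)
    obtain ⟨b, hb, hb'⟩ := this
    exact ⟨⟨b, hb⟩, hb'⟩
  choose next hnext using hstep
  let z : ∀ n, E n := fun n => Nat.rec (motive := fun n => E n) 0 (fun n a => next n a) n
  refine ⟨fun n => x n + (z n : G n), funext fun n => ?_⟩
  show x n + (z n : G n) - t n (x (n + 1) + (next n (z n) : G (n + 1))) = g n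
  rw [map_add, hnext n (z n)]
  abel

end Groth.Agent.TowerLim
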